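import Mathlib.RingTheory.AdjoinRoot
import Mathlib.RingTheory.Artinian.Module
import Mathlib.RingTheory.Artinian.Ring
import Mathlib.RingTheory.Flat.Localization
import Mathlib.RingTheory.LocalRing.Module
import Mathlib.RingTheory.TensorProduct.Free
import Mathlib.RingTheory.LocalProperties.Projective
import Mathlib.FieldTheory.Normal.Basic

/-!
# Finite free local covers realising prescribed residue maps
-/

set_option autoImplicit false
set_option linter.style.haveILetI false

open TensorProduct

namespace Groth.Agent.StrictRatLib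

universe u

variable {A : Type u} [CommRing A] {k' : Type u} [CommRing k'] [Algebra A k']

/-- A finite free algebra whose image in `k'` contains given integral elements. -/
theorem exists_free_range : ∀ (L : List k'), (∀ a ∈ L, IsIntegral A a) →
    ∃ (T : Type u) (_ : CommRing T) (_ : Algebra A T) (_ : Module.Free A T) (_ : Module.Finite A T)
      (π : T →ₐ[A] k'), ∀ a ∈ L, a ∈ π.range := by
  intro L
  induction L with
  | nil => exact fun _ => ⟨A, inferInstance, inferInstance, inferInstance, inferInstance, Algebra.ofId A k', by simp⟩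
  | cons a L ih =>
    intro h
    obtain ⟨T, _, _, _, _, π, hπ⟩ := ih fun b hb => h b (List.mem_cons_of_mem _ hb)
    obtain ⟨P, hP, hPa⟩ := h a List.mem_cons_self
    haveI : Module.Free A (AdjoinRoot P) := Module.Free.of_basis (AdjoinRoot.powerBasis' hP).basis
    haveI : Module.Finite A (AdjoinRoot P) := (AdjoinRoot.powerBasis' hP).finite
    let χ : AdjoinRoot P →ₐ[A] k' := AdjoinRoot.liftAlgHom P (Algebra.ofId A k') a hPa
    refine ⟨AdjoinRoot P ⊗[A] T, inferInstance, inferInstance, inferInstance, inferInstance,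
      Algebra.TensorProduct.lift χ π fun _ _ => Commute.all _ _, fun b hb => ?_⟩
    rcases List.mem_cons.1 hb with rfl | hb
    · exact ⟨AdjoinRoot.root P ⊗ₜ 1, by simp [χ]⟩
    · obtain ⟨t, rfl⟩ := hπ b hb
      exact ⟨1 ⊗ₜ t, by simp⟩

/-- A finite free algebra surjecting onto `k'` through which given maps from `B` factor. -/
theorem exists_free_lift {B : Type u} [CommRing B] [Algebra A B] [Module.Free A B] [Module.Finite A B]
    {T₀ : Type u} [CommRing T₀] [Algebra A T₀] [Module.Free A T₀] [Module.Finite A T₀]
    (π₀ : T₀ →ₐ[A] k') (hπ₀ : Function.Surjective π₀) : ∀ (L : List (B →ₐ[A] k')),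
    ∃ (T : Type u) (_ : CommRing T) (_ : Algebra A T) (_ : Module.Free A T) (_ : Module.Finite A T)
      (π : T →ₐ[A] k'), Function.Surjective π ∧ ∀ φ ∈ L, ∃ ψ : B →ₐ[A] T, π.comp ψ = φ := by
  intro L
  induction L with
  | nil => exact ⟨T₀, inferInstance, inferInstance, inferInstance, inferInstance, π₀, hπ₀, by simp⟩
  | cons φ L ih =>
    obtain ⟨T, _, _, _, _, π, hπ, hψ⟩ := ih
    refine ⟨B ⊗[A] T, inferInstance, inferInstance, inferInstance, inferInstance,
      Algebra.TensorProduct.lift φ π fun _ _ => Commute.all _ _,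
      fun z => (hπ z).elim fun t ht => ⟨1 ⊗ₜ t, by simpa using ht⟩, fun θ hθ => ?_⟩
    rcases List.mem_cons.1 hθ with rfl | hθ
    · exact ⟨Algebra.TensorProduct.includeLeft, Algebra.TensorProduct.lift_comp_includeLeft _ _ _⟩
    · obtain ⟨ψ, rfl⟩ := hψ θ hθ
      exact ⟨Algebra.TensorProduct.includeRight.comp ψ, AlgHom.ext fun b => by simp⟩

/-- A finite free local algebra with residue field `k'` realising finitely many maps to `k'`. -/
theorem exists_local_cover [IsLocalRing A] [IsArtinianRing A] {k' : Type u} [Field k'] [Algebra A k']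
    [Module.Finite A k'] {B : Type u} [CommRing B] [Algebra A B] [Module.Free A B] [Module.Finite A B]
    (L : List (B →ₐ[A] k')) :
    ∃ (A' : Type u) (_ : CommRing A') (_ : IsLocalRing A') (_ : Algebra A A') (_ : Module.Finite A A')
      (_ : Module.Free A A') (π : A' →ₐ[A] k'), Function.Surjective π ∧
      ∀ φ ∈ L, ∃ ψ : B →ₐ[A] A', π.comp ψ = φ := by
  obtain ⟨S, hS⟩ := (Module.Finite.fg_top (R := A) (M := k'))
  obtain ⟨T₀, _, _, _, _, π₀, hπ₀⟩ := exists_free_range (A := A) S.toList fun a _ => Algebra.IsIntegral.isIntegral a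
  have hπ₀s : Function.Surjective π₀ := by
    intro z
    have hle : (⊤ : Submodule A k') ≤ π₀.range.toSubmodule := by
      rw [← hS, Submodule.span_le]
      exact fun a ha => hπ₀ a (Finset.mem_toList.2 ha)
    exact hle (Submodule.mem_top (x := z))
  obtain ⟨T, _, _, _, _, π, hπ, hψ⟩ := exists_free_lift π₀ hπ₀s L
  haveI : IsArtinianRing T := IsArtinianRing.of_finite A T
  let P := RingHom.ker π.toRingHom
  haveI : P.IsPrime := RingHom.ker_isPrime _
  let A' := Localization.AtPrime P
  have hu : ∀ y : P.primeCompl, IsUnit (π y.1) := fun y => Ne.isUnit y.2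
  let π' : A' →ₐ[A] k' := IsLocalization.liftAlgHom (M := P.primeCompl) (f := π) hu
  have hπ' : ∀ t, π' (algebraMap T A' t) = π t := fun t => IsLocalization.lift_eq _ _
  have hs : Function.Surjective (algebraMap T A') := IsArtinianRing.localization_surjective P.primeCompl A'
  haveI : Module.Finite A A' :=
    Module.Finite.of_surjective (IsScalarTower.toAlgHom A T A').toLinearMap hs
  haveI : Module.Flat T A' := IsLocalization.flat A' P.primeCompl
  haveI : Module.Flat A A' := Module.Flat.trans A T A'
  haveI : Module.Free A A' := Module.free_of_flat_of_isLocalRing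
  refine ⟨A', inferInstance, inferInstance, inferInstance, inferInstance, inferInstance, π',
    fun z => (hπ z).elim fun t ht => ⟨algebraMap T A' t, (hπ' t).trans ht⟩, fun φ hφ => ?_⟩
  obtain ⟨ψ, hψ⟩ := hψ φ hφ
  refine ⟨(IsScalarTower.toAlgHom A T A').comp ψ, ?_⟩
  rw [← hψ]
  ext b
  exact hπ' _

end Groth.Agent.StrictRatLib
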